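import Cfsg.Agent.N2.Cl.FrL.Num

/-!
# N2 (S3519), linear groups: the stabiliser of a decomposition of `V` into `t` blocks of dimension `k` (helper53)
-/

set_option autoImplicit false
set_option linter.unusedSectionVars false

namespace Cfsg.Agent.N2C.FrL

open Module

theorem val_rot {n : ℕ} (i : Fin n) : (finRotate n i : ℕ) = (i + 1) % n := by
  have := i.neZero
  rw [finRotate_apply, Fin.val_add, Fin.val_one', Nat.add_mod_mod]

/-- a cycle through all points which permutes the blocks -/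
theorem exists_cyc {k t : ℕ} (h : 2 ≤ k * t) : ∃ (σ : Equiv.Perm (Fin k × Fin t)) (τ : Equiv.Perm (Fin t)),
    (∀ x, (σ x).2 = τ x.2) ∧ ∀ x y, ∃ m : ℕ, (σ ^ m) x = y := by
  let e : Fin k × Fin t ≃ Fin (k * t) := finProdFinEquiv
  refine ⟨e.symm.permCongr (finRotate _), finRotate t, fun x => Fin.ext ?_, fun x y => ?_⟩
  · change (finRotate _ (e x) : ℕ) % t = _
    rw [val_rot, val_rot, Nat.mod_mod_of_dvd _ (Dvd.intro_left k rfl)]
    change ((x.2 : ℕ) + t * x.1 + 1) % t = _
    rw [add_right_comm, Nat.add_mul_mod_self_left]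
  · have h1 : ∀ z, finRotate (k * t) z ≠ z := fun z =>
      Equiv.Perm.mem_support.1 (support_finRotate_of_le h ▸ Finset.mem_univ z)
    obtain ⟨m, hm⟩ := (isCycle_finRotate_of_le h).exists_pow_eq (h1 (e x)) (h1 (e y))
    refine ⟨m, ?_⟩
    rw [show e.symm.permCongr (finRotate _) ^ m = e.symm.permCongr (finRotate _ ^ m) from
      (map_pow e.symm.permCongrHom _ m).symm]
    change e.symm ((finRotate _ ^ m) (e x)) = y
    rw [hm, e.symm_apply_apply]

variable {K V : Type} [Field K] [AddCommGroup V] [Module K V]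

section mon

variable {ι : Type} [Fintype ι] [DecidableEq ι] (b : Basis ι K V)

/-- monomial maps -/
noncomputable def mon (σ : Equiv.Perm ι) (w : ι → Kˣ) : (End K V)ˣ :=
  LinearMap.GeneralLinearGroup.ofLinearEquiv (b.equiv (b.unitsSMul w) σ)

theorem mon_apply (σ : Equiv.Perm ι) (w : ι → Kˣ) (x : ι) : (mon b σ w : End K V) (b x) = (w (σ x) : K) • b (σ x) :=
  (b.equiv_apply x _ σ).trans (Basis.unitsSMul_apply _)

theorem mon_mul (σ : Equiv.Perm ι) (w : ι → Kˣ) : (mon b σ w : End K V) = mon b 1 w * mon b σ 1 :=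
  b.ext fun x => by rw [End.mul_apply, mon_apply, mon_apply, map_smul, mon_apply]; simp

theorem det_mon (w : ι → Kˣ) : LinearMap.det (mon b 1 w : End K V) = ∏ i, (w i : K) :=
  (Basis.det_basis _ b).trans (b.det_unitsSMul_self w)

/-- monomial maps with a given permutation and a given determinant -/
theorem exists_mon [Nonempty ι] (σ : Equiv.Perm ι) (c : Kˣ) : ∃ w, LinearMap.det (mon b σ w : End K V) = c := by
  obtain ⟨d, hd⟩ := (mon b σ 1).isUnit.map LinearMap.det
  obtain ⟨x⟩ := ‹Nonempty ι›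
  refine ⟨Pi.mulSingle x (c * d⁻¹), ?_⟩
  rw [mon_mul, map_mul, det_mon, ← Units.coe_prod, Finset.prod_pi_mulSingle', if_pos (Finset.mem_univ x), ← hd,
    ← Units.val_mul, inv_mul_cancel_right]

theorem span_mon {σ : Equiv.Perm ι} (w : ι → Kˣ) {x : ι} (h : ∀ y, ∃ m : ℕ, (σ ^ m) x = y) :
    Submodule.span K (Set.range fun m : ℕ => ((mon b σ w : End K V) ^ m) (b x)) = ⊤ := by
  have h1 : ∀ m : ℕ, ∃ c : Kˣ, ((mon b σ w : End K V) ^ m) (b x) = (c : K) • b ((σ ^ m) x) := fun m => by
    induction m with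
    | zero => exact ⟨1, by simp⟩
    | succ m ih =>
      obtain ⟨c, hc⟩ := ih
      exact ⟨c * w (σ ((σ ^ m) x)), by
        rw [pow_succ', pow_succ', End.mul_apply, hc, map_smul, mon_apply, smul_smul, Units.val_mul]; rfl⟩
  rw [eq_top_iff, ← b.span_eq, Submodule.span_le]
  rintro _ ⟨y, rfl⟩
  obtain ⟨m, rfl⟩ := h y
  obtain ⟨c, hc⟩ := h1 m
  exact (Submodule.smul_mem_iff _ c.ne_zero).1 (hc ▸ Submodule.subset_span ⟨m, rfl⟩)

end mon

variable {k t : ℕ} {E : Fin t → End K V}

variable (E) in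
/-- the stabiliser of a family of endomorphisms -/
def st : Subgroup (End K V)ˣ where
  carrier := {g | ∃ τ : Equiv.Perm (Fin t), ∀ i, g * E i = E (τ i) * g}
  one_mem' := ⟨1, fun i => by simp⟩
  mul_mem' := by
    rintro g h ⟨τ, hτ⟩ ⟨ρ, hρ⟩
    exact ⟨τ * ρ, fun i => by rw [Units.val_mul, mul_assoc, hρ, ← mul_assoc, hτ, mul_assoc]; rfl⟩
  inv_mem' := by
    rintro g ⟨τ, hτ⟩
    refine ⟨τ⁻¹, fun i => ?_⟩
    rw [Units.inv_mul_eq_iff_eq_mul, ← mul_assoc, hτ, Units.mul_inv_cancel_right]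
    simp

/-- a basis adapted to the decomposition -/
theorem exists_basis [Module.Finite K V] (h1 : ∀ i, E i * E i = E i) (h2 : ∀ i j, i ≠ j → E i * E j = 0)
    (h3 : ∑ i, E i = 1) (h4 : ∀ i, finrank K (LinearMap.range (E i)) = k) :
    ∃ b : Basis (Fin k × Fin t) K V, ∀ i x, E i (b x) = if i = x.2 then b x else 0 := by
  let β := fun i => finBasisOfFinrankEq K (LinearMap.range (E i)) (h4 i)
  let v : Fin k × Fin t → V := fun x => β x.2 x.1
  have hv : ∀ i x, E i (v x) = if i = x.2 then v x else 0 := fun i x => by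
    obtain ⟨y, hy⟩ := (β x.2 x.1).2
    change E i (β x.2 x.1) = if _ then (β x.2 x.1 : V) else 0
    rw [← hy, ← End.mul_apply]
    split_ifs with h
    · rw [h, h1]
    · rw [h2 _ _ h, LinearMap.zero_apply]
  refine ⟨Basis.mk (v := v) (Fintype.linearIndependent_iff.2 fun c hc x => ?_) fun y _ => ?_, fun i x => ?_⟩
  · have h5 := congrArg (E x.2) hc
    rw [map_sum, map_zero, Fintype.sum_prod_type] at h5
    simp only [map_smul, hv, smul_ite, smul_zero, Finset.sum_ite_eq, Finset.mem_univ, if_true] at h5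
    exact Fintype.linearIndependent_iff.1 (β x.2).linearIndependent (fun j => c (j, x.2))
      (Subtype.ext (by simpa using h5)) x.1
  · rw [← End.one_apply (R := K) y, ← h3, LinearMap.sum_apply]
    refine Submodule.sum_mem _ fun i _ => ?_
    have h5 := congrArg Subtype.val ((β i).sum_repr ⟨E i y, y, rfl⟩)
    rw [Submodule.coe_sum] at h5
    rw [show E i y = _ from h5.symm]
    exact Submodule.sum_mem _ fun j _ => Submodule.smul_mem _ _ (Submodule.subset_span ⟨(j, i), rfl⟩)
  · rw [Basis.mk_apply, hv]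

variable {b : Basis (Fin k × Fin t) K V} (hb : ∀ i x, E i (b x) = if i = x.2 then b x else 0)
include hb

theorem mon_mem {σ : Equiv.Perm (Fin k × Fin t)} {τ : Equiv.Perm (Fin t)} (h : ∀ x, (σ x).2 = τ x.2)
    (w : Fin k × Fin t → Kˣ) : mon b σ w ∈ st E := ⟨τ, fun i => b.ext fun x => by
  rw [End.mul_apply, End.mul_apply, mon_apply, map_smul, hb, hb, h]
  simp only [τ.apply_eq_iff_eq]
  split_ifs
  · rw [mon_apply]
  · rw [map_zero, smul_zero]⟩

/-- `|GL_k(q) ≀ S_t|` -/
theorem card_st [Fintype K] [Finite V] (h4 : ∀ i, finrank K (LinearMap.range (E i)) = k) :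
    Nat.card (st E) ≤ t.factorial * gN (Fintype.card K) k ^ t := by
  let LI := fun i => {s : Fin k → LinearMap.range (E i) // LinearIndependent K s}
  have h1 : ∀ i, Nat.card (LI i) = gN (Fintype.card K) k := fun i => by
    rw [card_linearIndependent (h4 i).ge, h4]
    rfl
  have h2 : Nat.card (Σ τ : Equiv.Perm (Fin t), ∀ i, LI (τ i)) = t.factorial * gN (Fintype.card K) k ^ t := by
    rw [Nat.card_sigma]
    simp only [Nat.card_pi, h1, Finset.prod_const, Finset.sum_const, Finset.card_univ, Fintype.card_fin,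
      Fintype.card_perm, smul_eq_mul]
  rw [← h2]
  choose τ hτ using fun g : st E => g.2
  let φ : st E → Σ τ : Equiv.Perm (Fin t), ∀ i, LI (τ i) := fun g => ⟨τ g, fun i =>
    ⟨fun j => ⟨g.1.1 (b (j, i)), g.1.1 (b (j, i)), by rw [← End.mul_apply, ← hτ, End.mul_apply, hb, if_pos rfl]⟩,
      LinearIndependent.of_comp (LinearMap.range (E (τ g i))).subtype
        ((b.linearIndependent.comp (fun j => (j, i)) fun _ _ e => congrArg Prod.fst e).map' g.1.1
          (LinearMap.GeneralLinearGroup.toLinearEquiv g.1).ker)⟩⟩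
  refine Nat.card_le_card_of_injective φ fun g h e => Subtype.ext (Units.ext (b.ext fun x => ?_))
  exact congrArg (fun z : Σ τ : Equiv.Perm (Fin t), ∀ i, LI (τ i) => ((z.2 x.2).1 x.1 : V)) e

end Cfsg.Agent.N2C.FrL
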