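import Cfsg.Agent.N2.Cl.FrL.Br
import Cfsg.Agent.N2.Cl.FrL.Vec

/-!
# N2 (S3519), linear groups: imprimitive subgroups `GL_k(q) ≀ S_t` (helper53)
-/

set_option autoImplicit false
set_option linter.unusedSectionVars false

namespace Cfsg.Agent.N2C

open Cfsg.Agent.DS.Cl Cfsg.Agent.DS.Cl.Fwd Module
open Cfsg.Agent.SB.Fld (prL)
open Cfsg.Agent.TH.Cl (KL)
open scoped Matrix

namespace FrL

variable {n : ℕ} {K : Type} [Field K] [Fintype K]

theorem card_fix (M : Matrix (Fin n) (Fin n) K) :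
    Nat.card {v : Fin n → K // M *ᵥ v = v} = Nat.card K ^ (n - (M - 1).rank) := by
  have h1 := (M - 1).mulVecLin.finrank_range_add_finrank_ker
  rw [finrank_fin_fun] at h1
  rw [Matrix.rank, Nat.sub_eq_of_eq_add (h1.symm.trans (add_comm _ _)), ← Module.natCard_eq_pow_finrank]
  exact Nat.card_congr (Equiv.subtypeEquivRight fun v => by
    rw [LinearMap.mem_ker, Matrix.mulVecLin_apply, Matrix.sub_mulVec, Matrix.one_mulVec, sub_eq_zero])

theorem card_fix' (M : Matrix (Fin n) (Fin n) K) :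
    Nat.card {x : Matrix (Fin n) (Fin n) K // M * x = x} = Nat.card {v : Fin n → K // M *ᵥ v = v} ^ n := by
  refine Eq.trans ?_ (Nat.card_fun.trans (congrArg _ (Nat.card_fin n)))
  exact Nat.card_congr ⟨fun x j => ⟨fun i => x.1 i j, funext fun i => congrFun (congrFun x.2 i) j⟩,
    fun c => ⟨Matrix.of fun i j => (c j).1 i, Matrix.ext fun i j => congrFun (c j).2 i⟩, fun _ => rfl, fun _ => rfl⟩

theorem card_fix_LR {e : LR (Fin n) K} (he : star e = e) :
    Nat.card {x : LR (Fin n) K // e * x = x} = Nat.card {v : Fin n → K // e.1 *ᵥ v = v} ^ (2 * n) := by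
  have h1 : e.2 = e.1ᵀ := (congrArg Prod.snd he).symm
  have h2 : Nat.card {v : Fin n → K // e.2 *ᵥ v = v} = Nat.card {v : Fin n → K // e.1 *ᵥ v = v} := by
    rw [card_fix, card_fix, h1, ← Matrix.rank_transpose (e.1 - 1), Matrix.transpose_sub, Matrix.transpose_one]
  rw [two_mul, pow_add]
  nth_rewrite 2 [← h2]
  rw [← card_fix', ← card_fix', ← Nat.card_prod]
  exact Nat.card_congr ⟨fun x => (⟨x.1.1, congrArg Prod.fst x.2⟩, ⟨x.1.2, congrArg Prod.snd x.2⟩),
    fun y => ⟨LR.mk y.1.1 y.2.1, Prod.ext y.1.2 y.2.2⟩, fun _ => rfl, fun _ => rfl⟩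

/-- automorphisms preserve the rank of symmetric idempotents -/
theorem rank_map (hn : n ≠ 0) (γ : RingAut (LR (Fin n) K)) {e : LR (Fin n) K} (h0 : e * e = e) (he : star e = e)
    (he' : star (γ e) = γ e) : finrank K (LinearMap.range (prL n K (γ e))) = finrank K (LinearMap.range (prL n K e)) := by
  have h1 : ∀ e : LR (Fin n) K, e * e = e →
      Nat.card {v : Fin n → K // e.1 *ᵥ v = v} = Nat.card K ^ finrank K (LinearMap.range (prL n K e)) := fun e h => by
    rw [← Module.natCard_eq_pow_finrank]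
    exact Nat.card_congr (Equiv.subtypeEquivRight fun v => ⟨fun hv => ⟨v, hv⟩, by
      rintro ⟨y, rfl⟩
      change prL n K e (prL n K e y) = _
      rw [← End.mul_apply, ← map_mul, h]⟩)
  have h2 : Nat.card {x : LR (Fin n) K // e * x = x} = Nat.card {x : LR (Fin n) K // γ e * x = x} :=
    Nat.card_congr (γ.toEquiv.subtypeEquiv fun x => by
      change _ ↔ γ e * γ x = γ x
      rw [← map_mul, γ.injective.eq_iff])
  rw [card_fix_LR he, card_fix_LR he', h1 e h0, h1 _ (by rw [← map_mul, h0])] at h2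
  exact (Nat.pow_right_injective Finite.one_lt_card (Nat.pow_left_injective (by omega) h2)).symm

/-- the blocks of a frame -/
theorem mem_st {D : Finset (LR (Fin n) K)} (hD : Fr D) {t : ℕ} (ε : Fin t ≃ D) (g : GG n K) :
    g ∈ st (fun i => prL n K (ε i)) ↔ ∀ d ∈ D, cj _ (lf n K g) d ∈ D := by
  constructor
  · rintro ⟨τ, hτ⟩ d hd
    obtain ⟨i, hi⟩ := ε.surjective ⟨d, hd⟩
    rw [show d = ε i from congrArg Subtype.val hi.symm,
      (mul_eq_iff g (hD.symm _ (ε i).2) (hD.symm _ (ε (τ i)).2)).2 (hτ i)]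
    exact (ε _).2
  · intro h
    let f : Fin t → Fin t := fun i => ε.symm ⟨_, h _ (ε i).2⟩
    have hf : ∀ i, cj _ (lf n K g) (ε i) = ε (f i) := fun i => by rw [ε.apply_symm_apply]
    have hi : Function.Injective f := fun i j e =>
      ε.injective (Subtype.ext ((cj _ (lf n K g)).injective (by rw [hf, hf, e])))
    exact ⟨Equiv.ofBijective f (Finite.injective_iff_bijective.1 hi), fun i =>
      (mul_eq_iff g (hD.symm _ (ε i).2) (hD.symm _ (ε (f i)).2)).1 (hf i)⟩

/-- frames with blocks of equal rank -/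
theorem gd_of_rank {F : FR (LR (Fin n) K)} {H : Subgroup (RingAut (LR (Fin n) K))} {p : ℕ} (kl : KL F) (hn : 5 ≤ n)
    (c : Ctx F H p) {D : Finset (LR (Fin n) K)} (hD : Fr D) (hI : Inv H D) {k : ℕ}
    (hk : ∀ d ∈ D, finrank K (LinearMap.range (prL n K d)) = k) : Gd F H := by
  classical
  have := finite_GG (n := n) (K := K)
  obtain ⟨t, ht, ⟨ε⟩⟩ : ∃ t, 2 ≤ t ∧ Nonempty (Fin t ≃ D) := ⟨D.card, hD.two, ⟨D.equivFin.symm⟩⟩
  have h4 := fun i => hk _ (ε i).2
  obtain ⟨b, hb⟩ := exists_basis (E := fun i => prL n K (ε i)) (fun i => by rw [← map_mul, hD.idem _ (ε i).2])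
    (fun i j h => by
      rw [← map_mul, hD.orth _ (ε i).2 _ (ε j).2 fun e => h (ε.injective (Subtype.ext e)), map_zero])
    (by rw [← map_sum, ε.sum_comp fun d => (d : LR (Fin n) K), Finset.sum_coe_sort D fun d => d, hD.sum, map_one]) h4
  have hkt : n = k * t := by
    have h1 := finrank_eq_card_basis b
    rwa [finrank_fin_fun, Fintype.card_prod, Fintype.card_fin, Fintype.card_fin] at h1
  have hk0 : 1 ≤ k := Nat.pos_of_ne_zero fun h => by rw [h, zero_mul] at hkt; omega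
  have x : Fin k × Fin t := (⟨0, hk0⟩, ⟨0, by omega⟩)
  have : Nonempty (Fin k × Fin t) := ⟨x⟩
  have hq : 2 ≤ Fintype.card K := Fintype.one_lt_card
  obtain ⟨σ, τ, h1, h2⟩ := exists_cyc (k := k) (t := t) (by omega)
  have hd : ∀ z, ∃ g ∈ st (fun i => prL n K (ε i)), dt n K g = z := fun z => by
    obtain ⟨w, hw⟩ := exists_mon b σ z
    exact ⟨_, mon_mem hb h1 w, Units.ext hw⟩
  have h3 : (Fintype.card K ^ n - 1) ^ 3 * Nat.card (st fun i => prL n K (ε i)) ≤
      (Fintype.card K - 1) ^ 3 * Nat.card (GG n K) := by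
    refine (Nat.mul_le_mul_left _ (card_st hb h4)).trans ?_
    rw [card_GG]
    change _ ≤ _ * gN _ n
    rw [hkt]
    exact num hq hk0 ht (hkt ▸ hn)
  have hS : ¬ Inv F.S D := fun hS => by
    have h5 : st (fun i => prL n K (ε i)) = ⊤ := eq_top_iff.2 fun g _ => by
      obtain ⟨m, hm, e⟩ := hd (dt n K g)
      have h6 := (mem_st hD ε (g * m⁻¹)).2 (hS _ (mem_S kl (by rw [map_mul, map_inv, e, mul_inv_cancel])))
      simpa using mul_mem h6 hm
    rw [h5, Subgroup.card_top] at h3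
    have h6 := (Nat.pow_le_pow_iff_left three_ne_zero).1 (Nat.le_of_mul_le_mul_right h3 Nat.card_pos)
    have h7 : Fintype.card K ^ 1 < Fintype.card K ^ n := Nat.pow_lt_pow_right hq (by omega)
    rw [pow_one] at h7
    omega
  obtain ⟨w, hw⟩ := exists_mon b σ 1
  exact gd_of_GL kl (fun g hg => (mem_st hD ε g).trans ⟨c.mem_of_inv hI hS (mem_S kl hg), hI _⟩) hd (mon_mem hb h1 w)
    (Units.ext hw) (cn_le_of_cyclic _ (b.ne_zero x) (span_mon b w (h2 x))) h3

end FrL

/-- **[Fr], linear groups** -/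
theorem frL : OnL 5 pFr := by
  rintro K _ _ n F H p kl hn c ⟨-, -, D, hD, hI, htr⟩
  obtain ⟨e, he⟩ : D.Nonempty := Finset.card_pos.1 (lt_of_lt_of_le two_pos hD.two)
  refine FrL.gd_of_rank kl hn c hD hI (k := finrank K (LinearMap.range (prL n K e))) fun d hd => ?_
  obtain ⟨γ, -, rfl⟩ := htr e he d hd
  exact FrL.rank_map (by omega) γ (hD.idem e he) (hD.symm e he) (hD.symm _ hd)

end Cfsg.Agent.N2C
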