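import Cfsg.Agent.N2.Cl.Defs
import Cfsg.Agent.TH.Cl.Big.Key

/-!
# N2 (S3519), linear groups: counting in `GL(V)` (helper53)

`gd_of_GL`: if `M ≤ GL(V)` cuts out `H ⊓ F.S` on the elements of determinant one and has all determinants, then
`|C(a)|³ |M| ≤ (q - 1)³ |GL(V)|` for some `a ∈ M` of determinant one is enough.
-/

set_option autoImplicit false
set_option linter.unusedSectionVars false

namespace Cfsg.Agent.N2C.FrL

open Cfsg.Agent.DS.Cl Cfsg.Agent.DS.Cl.Fwd Module
open Cfsg.Agent.FP3 (Good fx)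
open Cfsg.Agent.N2 (cn cc fx_mul fx_over good_comap)
open Cfsg.Agent.SB.Fld (prL)
open Cfsg.Agent.TH.Cl (KL)

/-- **overgroup criterion**: the conjugates of `a` lie in the kernel of `d` -/
theorem good_ker {G C : Type*} [Group G] [Finite G] [CommGroup C] (d : G →* C) {M : Subgroup G}
    (hM : ∀ c, ∃ g ∈ M, d g = c) {a : G} (ha : a ∈ M) (h1 : d a = 1) {c : ℕ} (hc : cn a ≤ c)
    (h : c ^ 3 * Nat.card M ≤ Nat.card C ^ 3 * Nat.card G) : Good (M.comap d.ker.subtype) := by
  obtain ⟨e1, e2⟩ := fx_over d.ker.subtype M (fun g => by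
    obtain ⟨m, hm, e⟩ := hM (d g)
    refine ⟨⟨g * m⁻¹, by rw [MonoidHom.mem_ker, map_mul, map_inv, e, mul_inv_cancel]⟩, ?_⟩
    change (g * m⁻¹)⁻¹ * g ∈ M
    rwa [mul_inv_rev, inv_inv, inv_mul_cancel_right]) ⟨a, h1⟩
  refine ⟨⟨a, h1⟩, ha, ?_⟩
  rw [e1, e2]
  change fx M a ^ 3 ≤ _
  have hs : Function.Surjective (d.comp M.subtype) := fun c => by
    obtain ⟨g, hg, e⟩ := hM c
    exact ⟨⟨g, hg⟩, e⟩
  have h2 : Nat.card C * Nat.card (d.comp M.subtype).ker = Nat.card M := by
    rw [← (d.comp M.subtype).ker.index_mul_card, Subgroup.index_ker, MonoidHom.range_eq_top.2 hs, Subgroup.card_top]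
  have h3 : cc M a ≤ Nat.card (d.comp M.subtype).ker :=
    Nat.card_le_card_of_injective (fun g => ⟨⟨g.1, g.2.2⟩, by
      obtain ⟨x, hx⟩ := isConj_iff.1 g.2.1
      change d g.1 = 1
      rw [← hx, map_mul, map_mul, h1, mul_one, map_inv, mul_inv_cancel]⟩)
      fun _ _ e => Subtype.ext (congrArg (fun x => x.1.1) e)
  have hp : 0 < Nat.card (d.comp M.subtype).ker := Nat.card_pos
  have h4 : fx M a * Nat.card C ≤ c := by
    refine Nat.le_of_mul_le_mul_right ?_ hp
    rw [mul_assoc, h2, fx_mul]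
    exact Nat.mul_le_mul hc h3
  have hC : 0 < Nat.card C := Nat.pos_of_ne_zero fun h0 => by
    rw [h0, zero_mul] at h2
    exact Nat.card_pos.ne h2
  refine Nat.le_of_mul_le_mul_right ?_ (Nat.mul_pos (pow_pos hC 3) (Nat.card_pos (α := M)))
  calc fx M a ^ 3 * (Nat.card C ^ 3 * Nat.card M) = (fx M a * Nat.card C) ^ 3 * Nat.card M := by ring
    _ ≤ c ^ 3 * Nat.card M := Nat.mul_le_mul_right _ (Nat.pow_le_pow_left h4 3)
    _ ≤ _ := h
    _ = _ := by rw [← M.index_mul_card]; ring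

variable {n : ℕ} {K : Type} [Field K] [Fintype K]

variable (n K) in
/-- the general linear group -/
abbrev GG : Type := (End K (Fin n → K))ˣ

variable (n K) in
/-- the isometry defined by an invertible linear map -/
noncomputable def lf : GG n K →* (LR (Fin n) K)ˣ := LR.gl.comp Matrix.GeneralLinearGroup.toLin.symm.toMonoidHom

variable (n K) in
/-- the determinant -/
noncomputable def dt : GG n K →* Kˣ := Units.map LinearMap.det

theorem dt_val (g : GG n K) : (dt n K g : K) = LinearMap.det (g : End K (Fin n → K)) := rfl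

theorem pr_lf (g : GG n K) : prL n K (lf n K g) = g := Matrix.toLinAlgEquiv'.apply_symm_apply _

theorem lf_iso (F : FR (LR (Fin n) K)) (g : GG n K) : lf n K g ∈ F.Iso :=
  mem_Iso_max (F.L_eq SB.Tor.eps_LR.cen SB.Tor.eps_LR.add) ((LR.mem_gl _).1 ⟨_, rfl⟩)

theorem exists_lf {F : FR (LR (Fin n) K)} {u : (LR (Fin n) K)ˣ} (hu : u ∈ F.Iso) : ∃ g, lf n K g = u := by
  obtain ⟨M, rfl⟩ := (LR.mem_gl u).2 hu.1
  exact ⟨Matrix.GeneralLinearGroup.toLin M, congrArg LR.gl (MulEquiv.symm_apply_apply _ M)⟩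

theorem card_GG : Nat.card (GG n K) = ∏ i : Fin n, (Fintype.card K ^ n - Fintype.card K ^ (i : ℕ)) := by
  classical
  rw [← Matrix.card_GL_field]
  exact Nat.card_congr Matrix.GeneralLinearGroup.toLin.symm.toEquiv

theorem finite_GG : Finite (GG n K) := by
  classical
  exact Finite.of_equiv _ (Matrix.GeneralLinearGroup.toLin (n := Fin n) (R := K)).toEquiv

/-- intertwining relations between symmetric elements can be read off on `V` -/
theorem mul_eq_iff (g : GG n K) {e f : LR (Fin n) K} (he : star e = e) (hf : star f = f) :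
    cj _ (lf n K g) e = f ↔ g * prL n K e = prL n K f * g := by
  constructor
  · intro h
    rw [← pr_lf g, ← map_mul, ← map_mul, ← h, cj_mul_eq]
  · intro h
    have h1 : ∀ u : (LR (Fin n) K)ˣ, (u : LR (Fin n) K) * star (u : LR (Fin n) K) = 1 → star (cj _ u e) = cj _ u e :=
      fun u hu => by rw [← cj_mem_SAut hu, he]
    have h2 : prL n K (cj _ (lf n K g) e) = prL n K f := by
      rw [cj_apply, map_mul, map_mul, ← map_inv, pr_lf, pr_lf, h, mul_assoc, Units.mul_inv, mul_one]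
    refine sub_eq_zero.1 (TH.Cl.prL_sep _ (by rw [map_sub, h2, sub_self]) ?_)
    rw [star_sub, h1 (lf n K g) ((LR.mem_gl _).1 ⟨_, rfl⟩), hf, map_sub, h2, sub_self]

variable {F : FR (LR (Fin n) K)} {H : Subgroup (RingAut (LR (Fin n) K))}

theorem mem_S (k : KL F) {g : GG n K} (hg : dt n K g = 1) : cj _ (lf n K g) ∈ F.S :=
  ⟨_, k.mem_comm (lf_iso F g) (by rw [pr_lf, ← dt_val, hg, Units.val_one]), rfl⟩

theorem exists_of_mem_S (k : KL F) {s : RingAut (LR (Fin n) K)} (hs : s ∈ F.S) :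
    ∃ g, dt n K g = 1 ∧ cj _ (lf n K g) = s := by
  obtain ⟨u, hu, rfl⟩ := hs
  obtain ⟨h1, h2⟩ := (SB.Tor.mem_comm_iff k.dim F u).1 hu
  obtain ⟨g, rfl⟩ := exists_lf h1
  exact ⟨g, Units.ext (by rw [dt_val, ← pr_lf, h2, Units.val_one]), rfl⟩

/-- the cover `SL(V) → F.S` -/
theorem gd_of_SL (k : KL F) {M : Subgroup (GG n K)} (hM : ∀ g, dt n K g = 1 → (g ∈ M ↔ cj _ (lf n K g) ∈ H))
    (h : Good (M.comap (dt n K).ker.subtype)) : Gd F H := by
  let π : (dt n K).ker →* F.S := (((cj _).comp (lf n K)).comp (dt n K).ker.subtype).codRestrict F.S fun g => mem_S k g.2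
  have hπ : Function.Surjective π := fun s => by
    obtain ⟨g, hg, e⟩ := exists_of_mem_S k s.2
    exact ⟨⟨g, hg⟩, Subtype.ext e⟩
  refine (good_comap π hπ _).1 ?_
  rwa [show (H.subgroupOf F.S).comap π = M.comap (dt n K).ker.subtype from Subgroup.ext fun g => (hM g g.2).symm]

/-- **criterion in `GL(V)`** -/
theorem gd_of_GL (k : KL F) {M : Subgroup (GG n K)} (hM : ∀ g, dt n K g = 1 → (g ∈ M ↔ cj _ (lf n K g) ∈ H))
    (hd : ∀ c, ∃ g ∈ M, dt n K g = c) {a : GG n K} (ha : a ∈ M) (h1 : dt n K a = 1) {c : ℕ} (hc : cn a ≤ c)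
    (h : c ^ 3 * Nat.card M ≤ (Fintype.card K - 1) ^ 3 * Nat.card (GG n K)) : Gd F H := by
  classical
  have := finite_GG (n := n) (K := K)
  refine gd_of_SL k hM (good_ker _ hd ha h1 hc ?_)
  rwa [Nat.card_eq_fintype_card (α := Kˣ), Fintype.card_units]

/-- the centraliser of a cyclic element -/
theorem cn_le_of_cyclic (a : GG n K) {v : Fin n → K} (hv : v ≠ 0)
    (h : Submodule.span K (Set.range fun m : ℕ => ((a : End K (Fin n → K)) ^ m) v) = ⊤) :
    cn a ≤ Fintype.card K ^ n - 1 := by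
  classical
  have h1 : Nat.card {w : Fin n → K // w ≠ 0} = Fintype.card K ^ n - 1 := by
    rw [Nat.card_eq_fintype_card, Fintype.card_subtype_compl, Fintype.card_subtype_eq, Fintype.card_fun, Fintype.card_fin]
  rw [← h1]
  refine Nat.card_le_card_of_injective (fun z : Subgroup.centralizer ({a} : Set (GG n K)) =>
    (⟨(z.1 : End K (Fin n → K)) v, fun h0 => hv ?_⟩ : {w : Fin n → K // w ≠ 0})) fun z z' e => ?_
  · rw [← End.one_apply (R := K) v, ← z.1.inv_mul, End.mul_apply, h0, map_zero]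
  · have h2 : ∀ z : Subgroup.centralizer ({a} : Set (GG n K)), ∀ m : ℕ,
        (z.1 : End K (Fin n → K)) (((a : End K (Fin n → K)) ^ m) v) = ((a : End K (Fin n → K)) ^ m) (z.1.1 v) :=
      fun z m => by
        have h3 : Commute (z.1 : End K (Fin n → K)) a :=
          congrArg Units.val (Subgroup.mem_centralizer_singleton_iff.1 z.2)
        rw [← End.mul_apply, (h3.pow_right m).eq, End.mul_apply]
    refine Subtype.ext (Units.ext (LinearMap.ext_on_range h fun m => ?_))
    rw [h2, h2, show z.1.1 v = z'.1.1 v from congrArg Subtype.val e]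

end Cfsg.Agent.N2C.FrL
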