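import Mathlib

/-!
# N2 (S3519), linear groups: the inequality for `GL_k(q) ≀ S_t` (helper53)
-/

set_option autoImplicit false

namespace Cfsg.Agent.N2C.FrL

/-- the order of `GL_m(q)` -/
def gN (q m : ℕ) : ℕ := ∏ i : Fin m, (q ^ m - q ^ (i : ℕ))

theorem gN_zero (q : ℕ) : gN q 0 = 1 := rfl

theorem gN_succ (q m : ℕ) : gN q (m + 1) = q ^ m * (q ^ (m + 1) - 1) * gN q m := by
  rw [gN, gN, Fin.prod_univ_succ, Fin.val_zero, pow_zero, mul_comm (q ^ m), mul_assoc]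
  congr 1
  rw [Finset.prod_congr rfl fun i _ => show q ^ (m + 1) - q ^ ((Fin.succ i : Fin (m + 1)) : ℕ) = q * (q ^ m - q ^ (i : ℕ)) by
    rw [Fin.val_succ, Nat.mul_sub, pow_succ', pow_succ'], Finset.prod_mul_distrib, Finset.prod_const, Finset.card_univ,
    Fintype.card_fin]

theorem gN_add {q : ℕ} (hq : 1 ≤ q) (m k : ℕ) : gN q m * gN q k * q ^ (2 * m * k) ≤ gN q (m + k) := by
  induction k with
  | zero => simp [gN_zero]
  | succ k ih =>
    have h1 : q ^ m * (q ^ (k + 1) - 1) ≤ q ^ (m + k + 1) - 1 := by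
      rw [Nat.mul_sub, ← pow_add, mul_one, add_assoc]
      exact Nat.sub_le_sub_left (Nat.one_le_pow _ _ hq) _
    rw [← add_assoc, gN_succ, gN_succ]
    calc _ = q ^ (m + k) * (q ^ m * (q ^ (k + 1) - 1)) * (gN q m * gN q k * q ^ (2 * m * k)) := by ring
      _ ≤ _ := Nat.mul_le_mul (Nat.mul_le_mul_left _ h1) ih

theorem gN_mul {q : ℕ} (hq : 1 ≤ q) (k t : ℕ) : gN q k ^ (t + 1) * q ^ (k * (t + 1) * (k * t)) ≤ gN q (k * (t + 1)) := by
  induction t with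
  | zero => simp
  | succ t ih =>
    calc _ = gN q k ^ (t + 1) * q ^ (k * (t + 1) * (k * t)) * gN q k * q ^ (2 * (k * (t + 1)) * k) := by ring
      _ ≤ gN q (k * (t + 1)) * gN q k * q ^ (2 * (k * (t + 1)) * k) := by gcongr
      _ ≤ _ := gN_add hq _ k

theorem fact_le {t m : ℕ} (h : t ≤ 2 ^ m) : t.factorial ≤ 2 ^ (t * m) := by
  rw [mul_comm, pow_mul]
  exact t.factorial_le_pow.trans (Nat.pow_le_pow_left h t)

theorem fact_le' {q k t : ℕ} (hq : 2 ≤ q) (hk : 1 ≤ k) (ht : 1 ≤ t) (h5 : 5 ≤ k * (t + 1))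
    (h1 : ¬ (q = 2 ∧ k = 1 ∧ t = 4)) (h2 : ¬ (q = 2 ∧ k = 3 ∧ t = 1)) :
    ∃ m, k * t = m + 3 ∧ (t + 1).factorial ≤ (q - 1) ^ 3 * q ^ (k * (t + 1) * m) := by
  have h3 : 3 ≤ k * t := by
    by_contra h
    have : k ≤ 2 := by nlinarith
    have : t ≤ 2 := by nlinarith
    interval_cases k <;> interval_cases t <;> omega
  obtain ⟨m, hm⟩ := Nat.exists_eq_add_of_le' h3
  refine ⟨m, hm, ?_⟩
  have a0 : 1 ≤ (q - 1) ^ 3 := Nat.one_le_pow _ _ (by omega)
  have a1 : ∀ e, e ≤ k * (t + 1) * m → 2 ^ e ≤ (q - 1) ^ 3 * q ^ (k * (t + 1) * m) := fun e he =>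
    ((Nat.pow_le_pow_right two_pos he).trans (Nat.pow_le_pow_left hq _)).trans (Nat.le_mul_of_pos_left _ a0)
  by_cases h6 : 6 ≤ t
  · refine (fact_le (m := t - 3) ?_).trans (a1 _ (Nat.mul_le_mul (Nat.le_mul_of_pos_left _ hk) (by
      have := Nat.le_mul_of_pos_left t hk
      omega)))
    obtain ⟨s, rfl⟩ := Nat.exists_eq_add_of_le' h6
    have := s.lt_two_pow_self
    rw [show s + 6 - 3 = s + 3 by omega, pow_add]
    omega
  by_cases hk1 : k = 1
  · subst hk1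
    obtain rfl | rfl : t = 4 ∨ t = 5 := by omega
    · obtain rfl : m = 1 := by omega
      have b1 : 3 ≤ q := by omega
      exact le_trans (by norm_num [Nat.factorial]) ((Nat.pow_le_pow_left b1 (1 * (4 + 1) * 1)).trans
        (Nat.le_mul_of_pos_left _ a0))
    · obtain rfl : m = 2 := by omega
      exact le_trans (by norm_num [Nat.factorial]) (a1 12 le_rfl)
  by_cases ht1 : t = 1
  · subst ht1
    by_cases hk3 : k = 3
    · have b1 : 2 ≤ q - 1 := by omega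
      exact le_trans (by norm_num [Nat.factorial]) ((Nat.pow_le_pow_left b1 3).trans
        (Nat.le_mul_of_pos_right _ (by positivity)))
    · exact le_trans (by norm_num [Nat.factorial]) (a1 1 (Nat.mul_pos (by omega) (by omega)))
  have b1 : 2 * t ≤ k * t := Nat.mul_le_mul_right _ (by omega)
  have b2 : 2 * (t + 1) * (2 * t - 3) ≤ k * (t + 1) * m := Nat.mul_le_mul (Nat.mul_le_mul_right _ (by omega)) (by omega)
  refine le_trans ?_ (a1 _ b2)
  have b3 : 2 ≤ t := by omega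
  have b4 : t ≤ 5 := by omega
  interval_cases t <;> norm_num [Nat.factorial]

/-- **the inequality** -/
theorem num {q k t : ℕ} (hq : 2 ≤ q) (hk : 1 ≤ k) (ht : 2 ≤ t) (h5 : 5 ≤ k * t) :
    (q ^ (k * t) - 1) ^ 3 * (t.factorial * gN q k ^ t) ≤ (q - 1) ^ 3 * gN q (k * t) := by
  obtain ⟨t, rfl⟩ : ∃ s, t = s + 1 := ⟨t - 1, by omega⟩
  by_cases h1 : q = 2 ∧ k = 1 ∧ t = 4
  · obtain ⟨rfl, rfl, rfl⟩ := h1
    norm_num [gN_succ, gN_zero, Nat.factorial]
  by_cases h2 : q = 2 ∧ k = 3 ∧ t = 1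
  · obtain ⟨rfl, rfl, rfl⟩ := h2
    norm_num [gN_succ, gN_zero, Nat.factorial]
  obtain ⟨m, hm, h3⟩ := fact_le' hq hk (by omega) h5 h1 h2
  have h4 := gN_mul (le_trans one_le_two hq) k t
  rw [hm] at h4
  calc _ ≤ (q ^ (k * (t + 1))) ^ 3 * (((q - 1) ^ 3 * q ^ (k * (t + 1) * m)) * gN q k ^ (t + 1)) :=
        Nat.mul_le_mul (Nat.pow_le_pow_left (Nat.sub_le _ _) 3) (Nat.mul_le_mul_right _ h3)
    _ = (q - 1) ^ 3 * (gN q k ^ (t + 1) * q ^ (k * (t + 1) * (m + 3))) := by ring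
    _ ≤ _ := Nat.mul_le_mul_left _ h4

end Cfsg.Agent.N2C.FrL
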